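import Groth.Agent.Unr55.Et.GaZariski
import Groth.Agent.EtCore45.Acyclic

/-!
# Sheaves acyclic on affine etale schemes have the same Zariski and etale cohomology
-/

set_option autoImplicit false
set_option backward.isDefEq.respectTransparency.types false
universe u

open CategoryTheory CategoryTheory.Limits CategoryTheory.Abelian AlgebraicGeometry Opposite TopologicalSpace

namespace Groth.Agent.H98EtZar

open Unr55

variable {X : Scheme.{u}}

/-- Positive degree cohomology vanishes on affine objects. -/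
def GoodA (F : EtCoh.Ab X) : Prop :=
  ∀ (W : X.Etale), IsAffine W.left → ∀ q : ℕ, 0 < q →
    Subsingleton (EtCoh.H W.left ((EtCoh.pull W.hom).obj F) q)

theorem sections_surjective {S : ShortComplex (EtCoh.Ab X)} (hS : S.ShortExact) (h : GoodA S.X₁)
    (W : X.Etale) [IsAffine W.left] : Function.Surjective (S.g.hom.app (op W)) :=
  EtCore45.sections_surjective hS W (h W ‹_› 1 one_pos)

theorem goodA_quot {S : ShortComplex (EtCoh.Ab X)} (hS : S.ShortExact)
    (h₁ : GoodA S.X₁) (h₂ : GoodA S.X₂) : GoodA S.X₃ := by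
  intro W hW q hq
  refine subsingleton_of_forall_eq 0 fun x => ?_
  have := h₂ W hW q hq
  have := h₁ W hW (q + 1) q.succ_pos
  obtain ⟨x₂, rfl⟩ := Ext.covariant_sequence_exact₃ _ (EtCore45.shortExact_pull W hS) x rfl
    (Subsingleton.elim (α := EtCoh.H W.left ((EtCoh.pull W.hom).obj S.X₁) (q + 1)) _ _)
  obtain rfl := Subsingleton.elim (α := EtCoh.H W.left ((EtCoh.pull W.hom).obj S.X₂) q) x₂ 0
  exact Ext.zero_comp _ _ _ _ _

theorem goodA_injective (I : EtCoh.Ab X) [Injective I] : GoodA I :=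
  fun W _ q hq => EtCore45.isAcyclicEt_injective I W q hq

theorem shortExact_resZar (S : ShortComplex (EtCoh.Ab X)) (hS : S.ShortExact)
    (h : GoodA S.X₁) : (S.map (EtZar.resZar X)).ShortExact := by
  have : Sheaf.IsLocallySurjective (S.map (EtZar.resZar X)).g := by
    constructor
    intro U s x hx
    obtain ⟨V, hV, hxV, hVU⟩ := exists_isAffineOpen_mem_and_subset (X := X) (x := x) (U := U) hx
    haveI : IsAffine ((EtZar.zarToEt X).obj V).left := hV
    obtain ⟨t, ht⟩ := sections_surjective hS h ((EtZar.zarToEt X).obj V)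
      (S.X₃.obj.map ((EtZar.zarToEt X).map (homOfLE hVU)).op s)
    exact ⟨V, homOfLE hVU, ⟨t, ht⟩, hxV⟩
  exact ZarCmp.shortExact_of_sections _
    (fun V => (CechFl.exists_sections_preimage S hS ((EtZar.zarToEt X).obj V) 0 (map_zero _)).1)
    (fun V y hy => (CechFl.exists_sections_preimage S hS ((EtZar.zarToEt X).obj V) y hy).2)

theorem subsingleton_H_resZar (X : Scheme.{u}) [IsAffine X] (F : EtCoh.Ab X) (hF : GoodA F) (p : ℕ) :
    Subsingleton (EtZar.H ((EtZar.resZar X).obj F) (p + 1)) := by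
  have hq : ∀ S : ShortComplex (EtCoh.Ab X), S.ShortExact → Injective S.X₂ → GoodA S.X₁ → GoodA S.X₃ :=
    fun S hS hI h => goodA_quot hS h (@goodA_injective X S.X₂ hI)
  obtain ⟨e⟩ := ExtCmp.compare (EtZar.resZar X) _ _ GoodA (fun S hS _ h => shortExact_resZar S hS h) hq
    (fun I hI n => ZarCmp.subsingleton_H_of_flasque X _ (@GaZar.isFlasque_resZar X I hI) n)
    (fun G => (ExtCmp.homTop (GaZar.zarTopTerminal X) G).trans
      (ExtCmp.homTop (ZarCmp.topTerminal X) ((EtZar.resZar X).obj G)).symm)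
    (fun {G G'} g c => (ExtCmp.homTop (ZarCmp.topTerminal X) ((EtZar.resZar X).obj G')).injective (by
      refine ((ExtCmp.homTop (ZarCmp.topTerminal X) ((EtZar.resZar X).obj G')).apply_symm_apply _).trans ?_
      refine Eq.trans ?_ (ExtCmp.homTop_comp (ZarCmp.topTerminal X) ((EtZar.resZar X).map g) _).symm
      refine Eq.trans ?_ (congrArg (((EtZar.resZar X).map g).hom.app (op ⊤))
        ((ExtCmp.homTop (ZarCmp.topTerminal X) ((EtZar.resZar X).obj G)).apply_symm_apply _)).symm
      rfl))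
    (p + 1) F hF
  refine e.symm.toEquiv.subsingleton_congr.mpr ?_
  refine ExtCmp.subsingleton_ext_of_class _ GoodA (fun S hS _ h c => ?_) hq p F hF
  haveI : IsAffine ((EtZar.zarToEt X).obj ⊤).left := isAffineOpen_top X
  obtain ⟨b, hb⟩ := sections_surjective hS h ((EtZar.zarToEt X).obj ⊤)
    (ExtCmp.homTop (GaZar.zarTopTerminal X) S.X₃ c)
  refine ⟨(ExtCmp.homTop (GaZar.zarTopTerminal X) S.X₂).symm b,
    (ExtCmp.homTop (GaZar.zarTopTerminal X) S.X₃).injective ?_⟩
  rw [ExtCmp.homTop_comp, AddEquiv.apply_symm_apply]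
  exact hb

end Groth.Agent.H98EtZar
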